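import Mathlib
import Cfsg.Agent.Helper9.J3.Fast
import Cfsg.Agent.Helper9.ON.Hom

set_option autoImplicit false

/-!
Elements of the group on the 122760 points given by words in the letters and by tables in chunks,
functions that compute them, and the checks of the kernel on all the points.
-/

namespace Cfsg.Agent.Helper9.ONS

open Cfsg Cfsg.Spor Cfsg.Agent.Helper9.J3 Cfsg.Agent.Helper9.ON Cfsg.Agent.Helper5.ONTC

/-- a function computes a permutation of the points. -/
def Cp (p : Equiv.Perm (Fin nP)) (f : ℕ → ℕ) : Prop := ∀ v : Fin nP, (p v).val = f v.val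

theorem Cp.one : Cp 1 (fun v => v) := fun _ => rfl

theorem Cp.mul {p q : Equiv.Perm (Fin nP)} {f g : ℕ → ℕ} (hp : Cp p f) (hq : Cp q g) :
    Cp (p * q) (fun v => f (g v)) := by
  intro v
  rw [Equiv.Perm.mul_apply, hp, hq]

theorem Cp.congr {p : Equiv.Perm (Fin nP)} {f g : ℕ → ℕ} (hp : Cp p f)
    (h : ∀ v, v < nP → g v = f v) : Cp p g := by
  intro v
  rw [hp, h v.val v.isLt]

theorem Cp.eq_one {p : Equiv.Perm (Fin nP)} {f : ℕ → ℕ} (hp : Cp p f)
    (h : ∀ v, v < nP → f v = v) : p = 1 := by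
  apply Equiv.ext
  intro v
  apply Fin.ext
  rw [hp, h v.val v.isLt]
  rfl

theorem Cp.lt {p : Equiv.Perm (Fin nP)} {f : ℕ → ℕ} (hp : Cp p f) {v : ℕ} (hv : v < nP) :
    f v < nP := by
  have h := hp ⟨v, hv⟩
  change _ = f v at h
  rw [← h]
  exact Fin.isLt _

theorem Cp.inv {p : Equiv.Perm (Fin nP)} {f g : ℕ → ℕ} (hp : Cp p f)
    (h1 : ∀ v, v < nP → g v < nP) (h2 : ∀ v, v < nP → f (g v) = v) : Cp p⁻¹ g := by
  intro v
  have e : p ⟨g v.val, h1 v.val v.isLt⟩ = v := by
    apply Fin.ext
    rw [hp]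
    exact h2 v.val v.isLt
  have e2 : p⁻¹ v = ⟨g v.val, h1 v.val v.isLt⟩ := by
    rw [Equiv.Perm.inv_eq_iff_eq]
    exact e.symm
  rw [e2]

theorem Cp.ne_one {p : Equiv.Perm (Fin nP)} {f : ℕ → ℕ} (hp : Cp p f) {v : ℕ} (hv : v < nP)
    (h : f v ≠ v) : p ≠ 1 := by
  intro e
  apply h
  have h1 := hp ⟨v, hv⟩
  rw [e] at h1
  exact h1.symm

theorem cp_sg {x : ℕ} (hx : x < 8) : Cp (sg x) (ctF x) := fun v => sg_apply hx v

/-! ### words in the letters -/

/-- the image of a point under a word in the letters. -/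
def evC (w : List ℕ) (v : ℕ) : ℕ :=
  List.rec (motive := fun _ => ℕ → ℕ) (fun v => v) (fun x _ ih v => sapp (ctF x) (ih v)) w v

theorem evC_cons (x : ℕ) (w : List ℕ) (v : ℕ) : evC (x :: w) v = ctF x (evC w v) := by
  change sapp (ctF x) (evC w v) = _
  rw [sapp_eq]

/-- the permutation of a word in the letters. -/
noncomputable def pW (w : List ℕ) : Equiv.Perm (Fin nP) := (w.map sg).prod

theorem cp_pW (w : List ℕ) (hw : ∀ x ∈ w, x < 8) : Cp (pW w) (evC w) := by
  induction w with
  | nil => exact Cp.one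
  | cons x w ih =>
    have h1 := Cp.mul (cp_sg (hw x List.mem_cons_self))
      (ih (fun y hy => hw y (List.mem_cons_of_mem _ hy)))
    have e : pW (x :: w) = sg x * pW w := by
      unfold pW
      rw [List.map_cons, List.prod_cons]
    rw [e]
    intro v
    rw [h1 v, evC_cons]

theorem pW_mem (w : List ℕ) (hw : ∀ x ∈ w, x < 8) : pW w ∈ ONP := by
  apply Subgroup.list_prod_mem
  intro p hp
  obtain ⟨x, hx, rfl⟩ := List.mem_map.1 hp
  exact sg_mem (hw x hx)

/-! ### words in given elements -/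

/-- the image of a point under a word in given functions. -/
def evL (fs : ℕ → ℕ → ℕ) (w : List ℕ) (v : ℕ) : ℕ :=
  List.rec (motive := fun _ => ℕ → ℕ) (fun v => v) (fun x _ ih v => sapp (fs x) (ih v)) w v

theorem evL_cons (fs : ℕ → ℕ → ℕ) (x : ℕ) (w : List ℕ) (v : ℕ) :
    evL fs (x :: w) v = fs x (evL fs w v) := by
  change sapp (fs x) (evL fs w v) = _
  rw [sapp_eq]

/-- the product of a word in given elements. -/
noncomputable def pL (ps : ℕ → Equiv.Perm (Fin nP)) (w : List ℕ) : Equiv.Perm (Fin nP) :=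
  (w.map ps).prod

theorem cp_pL {ps : ℕ → Equiv.Perm (Fin nP)} {fs : ℕ → ℕ → ℕ} (w : List ℕ)
    (hw : ∀ x ∈ w, Cp (ps x) (fs x)) : Cp (pL ps w) (evL fs w) := by
  induction w with
  | nil => exact Cp.one
  | cons x w ih =>
    have h1 := Cp.mul (hw x List.mem_cons_self)
      (ih (fun y hy => hw y (List.mem_cons_of_mem _ hy)))
    have e : pL ps (x :: w) = ps x * pL ps w := by
      unfold pL
      rw [List.map_cons, List.prod_cons]
    rw [e]
    intro v
    rw [h1 v, evL_cons]

theorem pL_mem {ps : ℕ → Equiv.Perm (Fin nP)} (w : List ℕ) (hw : ∀ x ∈ w, ps x ∈ ONP) :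
    pL ps w ∈ ONP := by
  apply Subgroup.list_prod_mem
  intro p hp
  obtain ⟨x, hx, rfl⟩ := List.mem_map.1 hp
  exact hw x hx

/-! ### tables in chunks and the checks -/

/-- the entry of a table given by chunks of 1024 entries of 17 bits. -/
def tbF (sel : ℕ → ℕ) (v : ℕ) : ℕ :=
  sapp (fun c => Nat.land (Nat.shiftRight (sel c) (Nat.mul 17 (Nat.land v 1023))) 131071)
    (Nat.shiftRight v 10)

/-- the check at a point that two functions agree. -/
def eqAt (f g : ℕ → ℕ) (v : ℕ) : Bool :=
  Bool.rec (Nat.beq (f v) (g v)) true (Nat.ble nP v)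

theorem eqAt_spec {f g : ℕ → ℕ} {v : ℕ} (h : eqAt f g v = true) (hv : v < nP) : f v = g v := by
  unfold eqAt at h
  have hb : Nat.ble nP v = false := by
    cases hc : Nat.ble nP v with
    | false => rfl
    | true => have := Nat.le_of_ble_eq_true hc; omega
  rw [hb] at h
  exact Nat.eq_of_beq_eq_true h

/-- the check at all the points that two functions agree. -/
def eqAll (f g : ℕ → ℕ) : Bool := allB (fun k => allC (eqAt f g) k 4096) 30

theorem eqAll_spec {f g : ℕ → ℕ} (h : eqAll f g = true) : ∀ v, v < nP → f v = g v := by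
  intro v hv
  have hv' : v < 30 * 4096 := lt_trans hv (by norm_num)
  exact eqAt_spec (allC_true (fun k hk => allB_true h hk) hv') hv

/-- the check at a point that the value of a function is a point. -/
def ltAt (f : ℕ → ℕ) (v : ℕ) : Bool :=
  Bool.rec (Nat.ble (Nat.succ (f v)) nP) true (Nat.ble nP v)

/-- the check at all the points that the values of a function are points. -/
def ltAll (f : ℕ → ℕ) : Bool := allB (fun k => allC (ltAt f) k 4096) 30

theorem ltAll_spec {f : ℕ → ℕ} (h : ltAll f = true) : ∀ v, v < nP → f v < nP := by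
  intro v hv
  have hv' : v < 30 * 4096 := lt_trans hv (by norm_num)
  have h1 : ltAt f v = true := allC_true (fun k hk => allB_true h hk) hv'
  unfold ltAt at h1
  have hb : Nat.ble nP v = false := by
    cases hc : Nat.ble nP v with
    | false => rfl
    | true => have := Nat.le_of_ble_eq_true hc; omega
  rw [hb] at h1
  exact Nat.le_of_ble_eq_true h1

/-! ### the checks in chunks -/

theorem eq_of_chunks {f g : ℕ → ℕ} (c K : ℕ) (hK : nP ≤ K * c)
    (h : ∀ k, k < K → allC (eqAt f g) k c = true) : ∀ v, v < nP → f v = g v := by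
  intro v hv
  exact eqAt_spec (allC_true h (lt_of_lt_of_le hv hK)) hv

theorem lt_of_chunks {f : ℕ → ℕ} (c K : ℕ) (hK : nP ≤ K * c)
    (h : ∀ k, k < K → allC (ltAt f) k c = true) : ∀ v, v < nP → f v < nP := by
  intro v hv
  have h1 : ltAt f v = true := allC_true h (lt_of_lt_of_le hv hK)
  unfold ltAt at h1
  have hb : Nat.ble nP v = false := by
    cases hc : Nat.ble nP v with
    | false => rfl
    | true => have := Nat.le_of_ble_eq_true hc; omega
  rw [hb] at h1
  exact Nat.le_of_ble_eq_true h1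

end Cfsg.Agent.Helper9.ONS
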