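import Mathlib
import Cfsg.Agent.Helper9.ONS.Tab
import Cfsg.Agent.Helper9.ONS.M11Words
import Cfsg.Agent.Helper9.ONS.M11DatG
import Cfsg.Agent.Helper9.ONS.M11DatT
import Cfsg.Agent.Helper9.ONS.M11DatB
import Cfsg.Agent.Helper9.ONS.M11DatBI

set_option autoImplicit false

/-! The functions of the letters of the words for the subgroup that is the smallest Mathieu
group. -/

namespace Cfsg.Agent.Helper9.ONS.M11D

open Cfsg.Agent.Helper9.ONS Cfsg.Agent.Helper9.J3

/-- the functions of the two elements: the element of order 11 and the involution. -/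
def bf (c : ℕ) : ℕ → ℕ := Nat.rec gT (fun _ _ => tT) c

/-- the functions of the letters of the presentation: the first generator, the second one and its
inverse. -/
def mf (c : ℕ) : ℕ → ℕ :=
  Nat.rec tT (fun c1 _ => Nat.rec bT (fun _ _ => biT) c1) c

end Cfsg.Agent.Helper9.ONS.M11D
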