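import Mathlib
import Cfsg.Agent.Helper9.ONS.M11Defs

set_option autoImplicit false
set_option Elab.async false

/-! Checks of the kernel on the points, in chunks. -/

namespace Cfsg.Agent.Helper9.ONS.M11D

open Cfsg.Agent.Helper9.ONS Cfsg.Agent.Helper9.J3

set_option maxRecDepth 1000000 in
theorem g_ok_0 : allC (eqAt (gT) (evC gw)) 0 16384 = true := by decide +kernel

set_option maxRecDepth 1000000 in
theorem g_ok_1 : allC (eqAt (gT) (evC gw)) 1 16384 = true := by decide +kernel

set_option maxRecDepth 1000000 in
theorem g_ok_2 : allC (eqAt (gT) (evC gw)) 2 16384 = true := by decide +kernel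

set_option maxRecDepth 1000000 in
theorem g_ok_3 : allC (eqAt (gT) (evC gw)) 3 16384 = true := by decide +kernel

set_option maxRecDepth 1000000 in
theorem g_ok_4 : allC (eqAt (gT) (evC gw)) 4 16384 = true := by decide +kernel

set_option maxRecDepth 1000000 in
theorem g_ok_5 : allC (eqAt (gT) (evC gw)) 5 16384 = true := by decide +kernel

set_option maxRecDepth 1000000 in
theorem g_ok_6 : allC (eqAt (gT) (evC gw)) 6 16384 = true := by decide +kernel

set_option maxRecDepth 1000000 in
theorem g_ok_7 : allC (eqAt (gT) (evC gw)) 7 16384 = true := by decide +kernel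

set_option maxRecDepth 1000000 in
theorem t_ok_0 : allC (eqAt (tT) (evC tw)) 0 4096 = true := by decide +kernel

set_option maxRecDepth 1000000 in
theorem t_ok_1 : allC (eqAt (tT) (evC tw)) 1 4096 = true := by decide +kernel

set_option maxRecDepth 1000000 in
theorem t_ok_2 : allC (eqAt (tT) (evC tw)) 2 4096 = true := by decide +kernel

set_option maxRecDepth 1000000 in
theorem t_ok_3 : allC (eqAt (tT) (evC tw)) 3 4096 = true := by decide +kernel

set_option maxRecDepth 1000000 in
theorem t_ok_4 : allC (eqAt (tT) (evC tw)) 4 4096 = true := by decide +kernel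

set_option maxRecDepth 1000000 in
theorem t_ok_5 : allC (eqAt (tT) (evC tw)) 5 4096 = true := by decide +kernel

set_option maxRecDepth 1000000 in
theorem t_ok_6 : allC (eqAt (tT) (evC tw)) 6 4096 = true := by decide +kernel

end Cfsg.Agent.Helper9.ONS.M11D
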