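import Mathlib
import Cfsg.Agent.Helper9.ONS.M11Defs

set_option autoImplicit false
set_option Elab.async false

/-! Checks of the kernel on the points, in chunks. -/

namespace Cfsg.Agent.Helper9.ONS.M11D

open Cfsg.Agent.Helper9.ONS Cfsg.Agent.Helper9.J3

set_option maxRecDepth 1000000 in
theorem t_ok_7 : allC (eqAt (tT) (evC tw)) 7 4096 = true := by decide +kernel

set_option maxRecDepth 1000000 in
theorem t_ok_8 : allC (eqAt (tT) (evC tw)) 8 4096 = true := by decide +kernel

set_option maxRecDepth 1000000 in
theorem t_ok_9 : allC (eqAt (tT) (evC tw)) 9 4096 = true := by decide +kernel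

set_option maxRecDepth 1000000 in
theorem t_ok_10 : allC (eqAt (tT) (evC tw)) 10 4096 = true := by decide +kernel

set_option maxRecDepth 1000000 in
theorem t_ok_11 : allC (eqAt (tT) (evC tw)) 11 4096 = true := by decide +kernel

set_option maxRecDepth 1000000 in
theorem t_ok_12 : allC (eqAt (tT) (evC tw)) 12 4096 = true := by decide +kernel

set_option maxRecDepth 1000000 in
theorem t_ok_13 : allC (eqAt (tT) (evC tw)) 13 4096 = true := by decide +kernel

set_option maxRecDepth 1000000 in
theorem t_ok_14 : allC (eqAt (tT) (evC tw)) 14 4096 = true := by decide +kernel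

set_option maxRecDepth 1000000 in
theorem t_ok_15 : allC (eqAt (tT) (evC tw)) 15 4096 = true := by decide +kernel

set_option maxRecDepth 1000000 in
theorem t_ok_16 : allC (eqAt (tT) (evC tw)) 16 4096 = true := by decide +kernel

set_option maxRecDepth 1000000 in
theorem t_ok_17 : allC (eqAt (tT) (evC tw)) 17 4096 = true := by decide +kernel

set_option maxRecDepth 1000000 in
theorem t_ok_18 : allC (eqAt (tT) (evC tw)) 18 4096 = true := by decide +kernel

end Cfsg.Agent.Helper9.ONS.M11D
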