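import Mathlib
import Cfsg.Agent.Helper9.ONS.M11Defs

set_option autoImplicit false
set_option Elab.async false

/-! Checks of the kernel on the points, in chunks. -/

namespace Cfsg.Agent.Helper9.ONS.M11D

open Cfsg.Agent.Helper9.ONS Cfsg.Agent.Helper9.J3

set_option maxRecDepth 1000000 in
theorem t_ok_19 : allC (eqAt (tT) (evC tw)) 19 4096 = true := by decide +kernel

set_option maxRecDepth 1000000 in
theorem t_ok_20 : allC (eqAt (tT) (evC tw)) 20 4096 = true := by decide +kernel

set_option maxRecDepth 1000000 in
theorem t_ok_21 : allC (eqAt (tT) (evC tw)) 21 4096 = true := by decide +kernel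

set_option maxRecDepth 1000000 in
theorem t_ok_22 : allC (eqAt (tT) (evC tw)) 22 4096 = true := by decide +kernel

set_option maxRecDepth 1000000 in
theorem t_ok_23 : allC (eqAt (tT) (evC tw)) 23 4096 = true := by decide +kernel

set_option maxRecDepth 1000000 in
theorem t_ok_24 : allC (eqAt (tT) (evC tw)) 24 4096 = true := by decide +kernel

set_option maxRecDepth 1000000 in
theorem t_ok_25 : allC (eqAt (tT) (evC tw)) 25 4096 = true := by decide +kernel

set_option maxRecDepth 1000000 in
theorem t_ok_26 : allC (eqAt (tT) (evC tw)) 26 4096 = true := by decide +kernel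

set_option maxRecDepth 1000000 in
theorem t_ok_27 : allC (eqAt (tT) (evC tw)) 27 4096 = true := by decide +kernel

set_option maxRecDepth 1000000 in
theorem t_ok_28 : allC (eqAt (tT) (evC tw)) 28 4096 = true := by decide +kernel

set_option maxRecDepth 1000000 in
theorem t_ok_29 : allC (eqAt (tT) (evC tw)) 29 4096 = true := by decide +kernel

set_option maxRecDepth 1000000 in
theorem b_ok_0 : allC (eqAt (bT) (evL bf bw)) 0 16384 = true := by decide +kernel

set_option maxRecDepth 1000000 in
theorem b_ok_1 : allC (eqAt (bT) (evL bf bw)) 1 16384 = true := by decide +kernel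

end Cfsg.Agent.Helper9.ONS.M11D
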