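import Mathlib
import Cfsg.Agent.Helper9.ONS.M11Defs

set_option autoImplicit false
set_option Elab.async false

/-! Checks of the kernel on the points, in chunks. -/

namespace Cfsg.Agent.Helper9.ONS.M11D

open Cfsg.Agent.Helper9.ONS Cfsg.Agent.Helper9.J3

set_option maxRecDepth 1000000 in
theorem b_ok_2 : allC (eqAt (bT) (evL bf bw)) 2 16384 = true := by decide +kernel

set_option maxRecDepth 1000000 in
theorem b_ok_3 : allC (eqAt (bT) (evL bf bw)) 3 16384 = true := by decide +kernel

set_option maxRecDepth 1000000 in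
theorem b_ok_4 : allC (eqAt (bT) (evL bf bw)) 4 16384 = true := by decide +kernel

set_option maxRecDepth 1000000 in
theorem b_ok_5 : allC (eqAt (bT) (evL bf bw)) 5 16384 = true := by decide +kernel

set_option maxRecDepth 1000000 in
theorem b_ok_6 : allC (eqAt (bT) (evL bf bw)) 6 16384 = true := by decide +kernel

set_option maxRecDepth 1000000 in
theorem b_ok_7 : allC (eqAt (bT) (evL bf bw)) 7 16384 = true := by decide +kernel

set_option maxRecDepth 1000000 in
theorem bi_lt_0 : allC (ltAt (biT)) 0 32768 = true := by decide +kernel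

set_option maxRecDepth 1000000 in
theorem bi_lt_1 : allC (ltAt (biT)) 1 32768 = true := by decide +kernel

set_option maxRecDepth 1000000 in
theorem bi_lt_2 : allC (ltAt (biT)) 2 32768 = true := by decide +kernel

set_option maxRecDepth 1000000 in
theorem bi_lt_3 : allC (ltAt (biT)) 3 32768 = true := by decide +kernel

set_option maxRecDepth 1000000 in
theorem bi_ok_0 : allC (eqAt (fun v => sapp bT (biT v)) (fun v => v)) 0 32768 = true := by decide +kernel

set_option maxRecDepth 1000000 in
theorem bi_ok_1 : allC (eqAt (fun v => sapp bT (biT v)) (fun v => v)) 1 32768 = true := by decide +kernel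

set_option maxRecDepth 1000000 in
theorem bi_ok_2 : allC (eqAt (fun v => sapp bT (biT v)) (fun v => v)) 2 32768 = true := by decide +kernel

set_option maxRecDepth 1000000 in
theorem bi_ok_3 : allC (eqAt (fun v => sapp bT (biT v)) (fun v => v)) 3 32768 = true := by decide +kernel

set_option maxRecDepth 1000000 in
theorem rel0_ok_0 : allC (eqAt (evL mf [0, 0]) (fun v => v)) 0 32768 = true := by decide +kernel

set_option maxRecDepth 1000000 in
theorem rel0_ok_1 : allC (eqAt (evL mf [0, 0]) (fun v => v)) 1 32768 = true := by decide +kernel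

set_option maxRecDepth 1000000 in
theorem rel0_ok_2 : allC (eqAt (evL mf [0, 0]) (fun v => v)) 2 32768 = true := by decide +kernel

set_option maxRecDepth 1000000 in
theorem rel0_ok_3 : allC (eqAt (evL mf [0, 0]) (fun v => v)) 3 32768 = true := by decide +kernel

set_option maxRecDepth 1000000 in
theorem rel1_ok_0 : allC (eqAt (evL mf [1, 2]) (fun v => v)) 0 32768 = true := by decide +kernel

set_option maxRecDepth 1000000 in
theorem rel1_ok_1 : allC (eqAt (evL mf [1, 2]) (fun v => v)) 1 32768 = true := by decide +kernel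

set_option maxRecDepth 1000000 in
theorem rel1_ok_2 : allC (eqAt (evL mf [1, 2]) (fun v => v)) 2 32768 = true := by decide +kernel

set_option maxRecDepth 1000000 in
theorem rel1_ok_3 : allC (eqAt (evL mf [1, 2]) (fun v => v)) 3 32768 = true := by decide +kernel

set_option maxRecDepth 1000000 in
theorem rel2_ok_0 : allC (eqAt (evL mf [2, 1]) (fun v => v)) 0 32768 = true := by decide +kernel

set_option maxRecDepth 1000000 in
theorem rel2_ok_1 : allC (eqAt (evL mf [2, 1]) (fun v => v)) 1 32768 = true := by decide +kernel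

set_option maxRecDepth 1000000 in
theorem rel2_ok_2 : allC (eqAt (evL mf [2, 1]) (fun v => v)) 2 32768 = true := by decide +kernel

set_option maxRecDepth 1000000 in
theorem rel2_ok_3 : allC (eqAt (evL mf [2, 1]) (fun v => v)) 3 32768 = true := by decide +kernel

set_option maxRecDepth 1000000 in
theorem rel3_ok_0 : allC (eqAt (evL mf [1, 1, 1, 1]) (fun v => v)) 0 32768 = true := by decide +kernel

set_option maxRecDepth 1000000 in
theorem rel3_ok_1 : allC (eqAt (evL mf [1, 1, 1, 1]) (fun v => v)) 1 32768 = true := by decide +kernel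

set_option maxRecDepth 1000000 in
theorem rel3_ok_2 : allC (eqAt (evL mf [1, 1, 1, 1]) (fun v => v)) 2 32768 = true := by decide +kernel

set_option maxRecDepth 1000000 in
theorem rel3_ok_3 : allC (eqAt (evL mf [1, 1, 1, 1]) (fun v => v)) 3 32768 = true := by decide +kernel

set_option maxRecDepth 1000000 in
theorem rel4_ok_0 : allC (eqAt (evL mf [0, 1, 0, 1, 0, 1, 0, 1, 0, 1, 0, 1, 0, 1, 0, 1, 0, 1, 0, 1, 0, 1]) (fun v => v)) 0 4096 = true := by decide +kernel

set_option maxRecDepth 1000000 in
theorem rel4_ok_1 : allC (eqAt (evL mf [0, 1, 0, 1, 0, 1, 0, 1, 0, 1, 0, 1, 0, 1, 0, 1, 0, 1, 0, 1, 0, 1]) (fun v => v)) 1 4096 = true := by decide +kernel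

set_option maxRecDepth 1000000 in
theorem rel4_ok_2 : allC (eqAt (evL mf [0, 1, 0, 1, 0, 1, 0, 1, 0, 1, 0, 1, 0, 1, 0, 1, 0, 1, 0, 1, 0, 1]) (fun v => v)) 2 4096 = true := by decide +kernel

end Cfsg.Agent.Helper9.ONS.M11D
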