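import Mathlib
import Cfsg.Agent.Helper9.ONS.M11Defs

set_option autoImplicit false
set_option Elab.async false

/-! Checks of the kernel on the points, in chunks. -/

namespace Cfsg.Agent.Helper9.ONS.M11D

open Cfsg.Agent.Helper9.ONS Cfsg.Agent.Helper9.J3

set_option maxRecDepth 1000000 in
theorem rel4_ok_3 : allC (eqAt (evL mf [0, 1, 0, 1, 0, 1, 0, 1, 0, 1, 0, 1, 0, 1, 0, 1, 0, 1, 0, 1, 0, 1]) (fun v => v)) 3 4096 = true := by decide +kernel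

set_option maxRecDepth 1000000 in
theorem rel4_ok_4 : allC (eqAt (evL mf [0, 1, 0, 1, 0, 1, 0, 1, 0, 1, 0, 1, 0, 1, 0, 1, 0, 1, 0, 1, 0, 1]) (fun v => v)) 4 4096 = true := by decide +kernel

set_option maxRecDepth 1000000 in
theorem rel4_ok_5 : allC (eqAt (evL mf [0, 1, 0, 1, 0, 1, 0, 1, 0, 1, 0, 1, 0, 1, 0, 1, 0, 1, 0, 1, 0, 1]) (fun v => v)) 5 4096 = true := by decide +kernel

set_option maxRecDepth 1000000 in
theorem rel4_ok_6 : allC (eqAt (evL mf [0, 1, 0, 1, 0, 1, 0, 1, 0, 1, 0, 1, 0, 1, 0, 1, 0, 1, 0, 1, 0, 1]) (fun v => v)) 6 4096 = true := by decide +kernel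

set_option maxRecDepth 1000000 in
theorem rel4_ok_7 : allC (eqAt (evL mf [0, 1, 0, 1, 0, 1, 0, 1, 0, 1, 0, 1, 0, 1, 0, 1, 0, 1, 0, 1, 0, 1]) (fun v => v)) 7 4096 = true := by decide +kernel

set_option maxRecDepth 1000000 in
theorem rel4_ok_8 : allC (eqAt (evL mf [0, 1, 0, 1, 0, 1, 0, 1, 0, 1, 0, 1, 0, 1, 0, 1, 0, 1, 0, 1, 0, 1]) (fun v => v)) 8 4096 = true := by decide +kernel

set_option maxRecDepth 1000000 in
theorem rel4_ok_9 : allC (eqAt (evL mf [0, 1, 0, 1, 0, 1, 0, 1, 0, 1, 0, 1, 0, 1, 0, 1, 0, 1, 0, 1, 0, 1]) (fun v => v)) 9 4096 = true := by decide +kernel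

set_option maxRecDepth 1000000 in
theorem rel4_ok_10 : allC (eqAt (evL mf [0, 1, 0, 1, 0, 1, 0, 1, 0, 1, 0, 1, 0, 1, 0, 1, 0, 1, 0, 1, 0, 1]) (fun v => v)) 10 4096 = true := by decide +kernel

set_option maxRecDepth 1000000 in
theorem rel4_ok_11 : allC (eqAt (evL mf [0, 1, 0, 1, 0, 1, 0, 1, 0, 1, 0, 1, 0, 1, 0, 1, 0, 1, 0, 1, 0, 1]) (fun v => v)) 11 4096 = true := by decide +kernel

set_option maxRecDepth 1000000 in
theorem rel4_ok_12 : allC (eqAt (evL mf [0, 1, 0, 1, 0, 1, 0, 1, 0, 1, 0, 1, 0, 1, 0, 1, 0, 1, 0, 1, 0, 1]) (fun v => v)) 12 4096 = true := by decide +kernel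

set_option maxRecDepth 1000000 in
theorem rel4_ok_13 : allC (eqAt (evL mf [0, 1, 0, 1, 0, 1, 0, 1, 0, 1, 0, 1, 0, 1, 0, 1, 0, 1, 0, 1, 0, 1]) (fun v => v)) 13 4096 = true := by decide +kernel

set_option maxRecDepth 1000000 in
theorem rel4_ok_14 : allC (eqAt (evL mf [0, 1, 0, 1, 0, 1, 0, 1, 0, 1, 0, 1, 0, 1, 0, 1, 0, 1, 0, 1, 0, 1]) (fun v => v)) 14 4096 = true := by decide +kernel

set_option maxRecDepth 1000000 in
theorem rel4_ok_15 : allC (eqAt (evL mf [0, 1, 0, 1, 0, 1, 0, 1, 0, 1, 0, 1, 0, 1, 0, 1, 0, 1, 0, 1, 0, 1]) (fun v => v)) 15 4096 = true := by decide +kernel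

set_option maxRecDepth 1000000 in
theorem rel4_ok_16 : allC (eqAt (evL mf [0, 1, 0, 1, 0, 1, 0, 1, 0, 1, 0, 1, 0, 1, 0, 1, 0, 1, 0, 1, 0, 1]) (fun v => v)) 16 4096 = true := by decide +kernel

set_option maxRecDepth 1000000 in
theorem rel4_ok_17 : allC (eqAt (evL mf [0, 1, 0, 1, 0, 1, 0, 1, 0, 1, 0, 1, 0, 1, 0, 1, 0, 1, 0, 1, 0, 1]) (fun v => v)) 17 4096 = true := by decide +kernel

set_option maxRecDepth 1000000 in
theorem rel4_ok_18 : allC (eqAt (evL mf [0, 1, 0, 1, 0, 1, 0, 1, 0, 1, 0, 1, 0, 1, 0, 1, 0, 1, 0, 1, 0, 1]) (fun v => v)) 18 4096 = true := by decide +kernel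

set_option maxRecDepth 1000000 in
theorem rel4_ok_19 : allC (eqAt (evL mf [0, 1, 0, 1, 0, 1, 0, 1, 0, 1, 0, 1, 0, 1, 0, 1, 0, 1, 0, 1, 0, 1]) (fun v => v)) 19 4096 = true := by decide +kernel

set_option maxRecDepth 1000000 in
theorem rel4_ok_20 : allC (eqAt (evL mf [0, 1, 0, 1, 0, 1, 0, 1, 0, 1, 0, 1, 0, 1, 0, 1, 0, 1, 0, 1, 0, 1]) (fun v => v)) 20 4096 = true := by decide +kernel

set_option maxRecDepth 1000000 in
theorem rel4_ok_21 : allC (eqAt (evL mf [0, 1, 0, 1, 0, 1, 0, 1, 0, 1, 0, 1, 0, 1, 0, 1, 0, 1, 0, 1, 0, 1]) (fun v => v)) 21 4096 = true := by decide +kernel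

set_option maxRecDepth 1000000 in
theorem rel4_ok_22 : allC (eqAt (evL mf [0, 1, 0, 1, 0, 1, 0, 1, 0, 1, 0, 1, 0, 1, 0, 1, 0, 1, 0, 1, 0, 1]) (fun v => v)) 22 4096 = true := by decide +kernel

set_option maxRecDepth 1000000 in
theorem rel4_ok_23 : allC (eqAt (evL mf [0, 1, 0, 1, 0, 1, 0, 1, 0, 1, 0, 1, 0, 1, 0, 1, 0, 1, 0, 1, 0, 1]) (fun v => v)) 23 4096 = true := by decide +kernel

set_option maxRecDepth 1000000 in
theorem rel4_ok_24 : allC (eqAt (evL mf [0, 1, 0, 1, 0, 1, 0, 1, 0, 1, 0, 1, 0, 1, 0, 1, 0, 1, 0, 1, 0, 1]) (fun v => v)) 24 4096 = true := by decide +kernel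

set_option maxRecDepth 1000000 in
theorem rel4_ok_25 : allC (eqAt (evL mf [0, 1, 0, 1, 0, 1, 0, 1, 0, 1, 0, 1, 0, 1, 0, 1, 0, 1, 0, 1, 0, 1]) (fun v => v)) 25 4096 = true := by decide +kernel

set_option maxRecDepth 1000000 in
theorem rel4_ok_26 : allC (eqAt (evL mf [0, 1, 0, 1, 0, 1, 0, 1, 0, 1, 0, 1, 0, 1, 0, 1, 0, 1, 0, 1, 0, 1]) (fun v => v)) 26 4096 = true := by decide +kernel

set_option maxRecDepth 1000000 in
theorem rel4_ok_27 : allC (eqAt (evL mf [0, 1, 0, 1, 0, 1, 0, 1, 0, 1, 0, 1, 0, 1, 0, 1, 0, 1, 0, 1, 0, 1]) (fun v => v)) 27 4096 = true := by decide +kernel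

set_option maxRecDepth 1000000 in
theorem rel4_ok_28 : allC (eqAt (evL mf [0, 1, 0, 1, 0, 1, 0, 1, 0, 1, 0, 1, 0, 1, 0, 1, 0, 1, 0, 1, 0, 1]) (fun v => v)) 28 4096 = true := by decide +kernel

set_option maxRecDepth 1000000 in
theorem rel4_ok_29 : allC (eqAt (evL mf [0, 1, 0, 1, 0, 1, 0, 1, 0, 1, 0, 1, 0, 1, 0, 1, 0, 1, 0, 1, 0, 1]) (fun v => v)) 29 4096 = true := by decide +kernel

set_option maxRecDepth 1000000 in
theorem rel5_ok_0 : allC (eqAt (evL mf [0, 1, 1, 0, 1, 1, 0, 1, 1, 0, 1, 1, 0, 1, 1, 0, 1, 1]) (fun v => v)) 0 8192 = true := by decide +kernel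

set_option maxRecDepth 1000000 in
theorem rel5_ok_1 : allC (eqAt (evL mf [0, 1, 1, 0, 1, 1, 0, 1, 1, 0, 1, 1, 0, 1, 1, 0, 1, 1]) (fun v => v)) 1 8192 = true := by decide +kernel

set_option maxRecDepth 1000000 in
theorem rel5_ok_2 : allC (eqAt (evL mf [0, 1, 1, 0, 1, 1, 0, 1, 1, 0, 1, 1, 0, 1, 1, 0, 1, 1]) (fun v => v)) 2 8192 = true := by decide +kernel

end Cfsg.Agent.Helper9.ONS.M11D
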