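import Mathlib
import Cfsg.Agent.Helper9.ONS.M11Chk0
import Cfsg.Agent.Helper9.ONS.M11Chk1
import Cfsg.Agent.Helper9.ONS.M11Chk2
import Cfsg.Agent.Helper9.ONS.M11Chk3
import Cfsg.Agent.Helper9.ONS.M11Chk4
import Cfsg.Agent.Helper9.ONS.M11Chk5
import Cfsg.Agent.Helper9.ONS.M11Chk6

set_option autoImplicit false

/-! The checks of the kernel on all the points, assembled from the chunks. -/

namespace Cfsg.Agent.Helper9.ONS.M11D

open Cfsg.Agent.Helper9.ONS Cfsg.Agent.Helper9.J3 Cfsg.Agent.Helper9.ON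

theorem g_ok_all : ∀ k, k < 8 → allC (eqAt (gT) (evC gw)) k 16384 = true := by
  intro k hk
  interval_cases k
  · exact g_ok_0
  · exact g_ok_1
  · exact g_ok_2
  · exact g_ok_3
  · exact g_ok_4
  · exact g_ok_5
  · exact g_ok_6
  · exact g_ok_7

theorem g_ok_spec : ∀ v, v < nP → (gT) v = (evC gw) v :=
  eq_of_chunks 16384 8 (by norm_num) g_ok_all

theorem t_ok_all : ∀ k, k < 30 → allC (eqAt (tT) (evC tw)) k 4096 = true := by
  intro k hk
  interval_cases k
  · exact t_ok_0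
  · exact t_ok_1
  · exact t_ok_2
  · exact t_ok_3
  · exact t_ok_4
  · exact t_ok_5
  · exact t_ok_6
  · exact t_ok_7
  · exact t_ok_8
  · exact t_ok_9
  · exact t_ok_10
  · exact t_ok_11
  · exact t_ok_12
  · exact t_ok_13
  · exact t_ok_14
  · exact t_ok_15
  · exact t_ok_16
  · exact t_ok_17
  · exact t_ok_18
  · exact t_ok_19
  · exact t_ok_20
  · exact t_ok_21
  · exact t_ok_22
  · exact t_ok_23
  · exact t_ok_24
  · exact t_ok_25
  · exact t_ok_26
  · exact t_ok_27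
  · exact t_ok_28
  · exact t_ok_29

theorem t_ok_spec : ∀ v, v < nP → (tT) v = (evC tw) v :=
  eq_of_chunks 4096 30 (by norm_num) t_ok_all

theorem b_ok_all : ∀ k, k < 8 → allC (eqAt (bT) (evL bf bw)) k 16384 = true := by
  intro k hk
  interval_cases k
  · exact b_ok_0
  · exact b_ok_1
  · exact b_ok_2
  · exact b_ok_3
  · exact b_ok_4
  · exact b_ok_5
  · exact b_ok_6
  · exact b_ok_7

theorem b_ok_spec : ∀ v, v < nP → (bT) v = (evL bf bw) v :=
  eq_of_chunks 16384 8 (by norm_num) b_ok_all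

theorem bi_lt_all : ∀ k, k < 4 → allC (ltAt (biT)) k 32768 = true := by
  intro k hk
  interval_cases k
  · exact bi_lt_0
  · exact bi_lt_1
  · exact bi_lt_2
  · exact bi_lt_3

theorem bi_lt_spec : ∀ v, v < nP → (biT) v < nP :=
  lt_of_chunks 32768 4 (by norm_num) bi_lt_all

theorem bi_ok_all : ∀ k, k < 4 → allC (eqAt (fun v => sapp bT (biT v)) (fun v => v)) k 32768 = true := by
  intro k hk
  interval_cases k
  · exact bi_ok_0
  · exact bi_ok_1
  · exact bi_ok_2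
  · exact bi_ok_3

theorem bi_ok_spec : ∀ v, v < nP → (fun v => sapp bT (biT v)) v = (fun v => v) v :=
  eq_of_chunks 32768 4 (by norm_num) bi_ok_all

theorem rel0_ok_all : ∀ k, k < 4 → allC (eqAt (evL mf [0, 0]) (fun v => v)) k 32768 = true := by
  intro k hk
  interval_cases k
  · exact rel0_ok_0
  · exact rel0_ok_1
  · exact rel0_ok_2
  · exact rel0_ok_3

theorem rel0_ok_spec : ∀ v, v < nP → (evL mf [0, 0]) v = (fun v => v) v :=
  eq_of_chunks 32768 4 (by norm_num) rel0_ok_all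

theorem rel1_ok_all : ∀ k, k < 4 → allC (eqAt (evL mf [1, 2]) (fun v => v)) k 32768 = true := by
  intro k hk
  interval_cases k
  · exact rel1_ok_0
  · exact rel1_ok_1
  · exact rel1_ok_2
  · exact rel1_ok_3

theorem rel1_ok_spec : ∀ v, v < nP → (evL mf [1, 2]) v = (fun v => v) v :=
  eq_of_chunks 32768 4 (by norm_num) rel1_ok_all

theorem rel2_ok_all : ∀ k, k < 4 → allC (eqAt (evL mf [2, 1]) (fun v => v)) k 32768 = true := by
  intro k hk
  interval_cases k
  · exact rel2_ok_0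
  · exact rel2_ok_1
  · exact rel2_ok_2
  · exact rel2_ok_3

theorem rel2_ok_spec : ∀ v, v < nP → (evL mf [2, 1]) v = (fun v => v) v :=
  eq_of_chunks 32768 4 (by norm_num) rel2_ok_all

theorem rel3_ok_all : ∀ k, k < 4 → allC (eqAt (evL mf [1, 1, 1, 1]) (fun v => v)) k 32768 = true := by
  intro k hk
  interval_cases k
  · exact rel3_ok_0
  · exact rel3_ok_1
  · exact rel3_ok_2
  · exact rel3_ok_3

theorem rel3_ok_spec : ∀ v, v < nP → (evL mf [1, 1, 1, 1]) v = (fun v => v) v :=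
  eq_of_chunks 32768 4 (by norm_num) rel3_ok_all

theorem rel4_ok_all : ∀ k, k < 30 → allC (eqAt (evL mf [0, 1, 0, 1, 0, 1, 0, 1, 0, 1, 0, 1, 0, 1, 0, 1, 0, 1, 0, 1, 0, 1]) (fun v => v)) k 4096 = true := by
  intro k hk
  interval_cases k
  · exact rel4_ok_0
  · exact rel4_ok_1
  · exact rel4_ok_2
  · exact rel4_ok_3
  · exact rel4_ok_4
  · exact rel4_ok_5
  · exact rel4_ok_6
  · exact rel4_ok_7
  · exact rel4_ok_8
  · exact rel4_ok_9
  · exact rel4_ok_10
  · exact rel4_ok_11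
  · exact rel4_ok_12
  · exact rel4_ok_13
  · exact rel4_ok_14
  · exact rel4_ok_15
  · exact rel4_ok_16
  · exact rel4_ok_17
  · exact rel4_ok_18
  · exact rel4_ok_19
  · exact rel4_ok_20
  · exact rel4_ok_21
  · exact rel4_ok_22
  · exact rel4_ok_23
  · exact rel4_ok_24
  · exact rel4_ok_25
  · exact rel4_ok_26
  · exact rel4_ok_27
  · exact rel4_ok_28
  · exact rel4_ok_29

theorem rel4_ok_spec : ∀ v, v < nP → (evL mf [0, 1, 0, 1, 0, 1, 0, 1, 0, 1, 0, 1, 0, 1, 0, 1, 0, 1, 0, 1, 0, 1]) v = (fun v => v) v :=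
  eq_of_chunks 4096 30 (by norm_num) rel4_ok_all

theorem rel5_ok_all : ∀ k, k < 15 → allC (eqAt (evL mf [0, 1, 1, 0, 1, 1, 0, 1, 1, 0, 1, 1, 0, 1, 1, 0, 1, 1]) (fun v => v)) k 8192 = true := by
  intro k hk
  interval_cases k
  · exact rel5_ok_0
  · exact rel5_ok_1
  · exact rel5_ok_2
  · exact rel5_ok_3
  · exact rel5_ok_4
  · exact rel5_ok_5
  · exact rel5_ok_6
  · exact rel5_ok_7
  · exact rel5_ok_8
  · exact rel5_ok_9
  · exact rel5_ok_10
  · exact rel5_ok_11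
  · exact rel5_ok_12
  · exact rel5_ok_13
  · exact rel5_ok_14

theorem rel5_ok_spec : ∀ v, v < nP → (evL mf [0, 1, 1, 0, 1, 1, 0, 1, 1, 0, 1, 1, 0, 1, 1, 0, 1, 1]) v = (fun v => v) v :=
  eq_of_chunks 8192 15 (by norm_num) rel5_ok_all

theorem rel6_ok_all : ∀ k, k < 15 → allC (eqAt (evL mf [0, 1, 0, 1, 0, 2, 0, 1, 0, 1, 1, 0, 2, 0, 1, 0, 2, 0, 2]) (fun v => v)) k 8192 = true := by
  intro k hk
  interval_cases k
  · exact rel6_ok_0
  · exact rel6_ok_1
  · exact rel6_ok_2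
  · exact rel6_ok_3
  · exact rel6_ok_4
  · exact rel6_ok_5
  · exact rel6_ok_6
  · exact rel6_ok_7
  · exact rel6_ok_8
  · exact rel6_ok_9
  · exact rel6_ok_10
  · exact rel6_ok_11
  · exact rel6_ok_12
  · exact rel6_ok_13
  · exact rel6_ok_14

theorem rel6_ok_spec : ∀ v, v < nP → (evL mf [0, 1, 0, 1, 0, 2, 0, 1, 0, 1, 1, 0, 2, 0, 1, 0, 2, 0, 2]) v = (fun v => v) v :=
  eq_of_chunks 8192 15 (by norm_num) rel6_ok_all


end Cfsg.Agent.Helper9.ONS.M11D
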