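import Mathlib
import Cfsg.Agent.Helper9.ONS.Tab

set_option autoImplicit false

/-!
A simple subgroup of given order of the full group, inside a subgroup, is a simple subgroup of the
same order of that subgroup.
-/

namespace Cfsg.Agent.Helper9.ONS

theorem simple_card_subgroupOf {G : Type*} [Group G] (H R : Subgroup G) (h : R ≤ H) (n : ℕ)
    (hR : IsSimpleGroup ↥R ∧ Nat.card ↥R = n) :
    IsSimpleGroup ↥(R.subgroupOf H) ∧ Nat.card ↥(R.subgroupOf H) = n := by
  have e : ↥(R.subgroupOf H) ≃* ↥R := Subgroup.subgroupOfEquivOfLe h
  have := hR.1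
  exact ⟨e.isSimpleGroup_congr.2 hR.1, by rw [Nat.card_congr e.toEquiv]; exact hR.2⟩

/-- the image of a simple group under a homomorphism that does not kill some element is a simple
group of the same order. -/
theorem simple_card_range {P G : Type*} [Group P] [Group G] (n : ℕ)
    (hP : IsSimpleGroup P ∧ Nat.card P = n) (f : P →* G) (x : P) (hf : f x ≠ 1) :
    IsSimpleGroup ↥f.range ∧ Nat.card ↥f.range = n := by
  have := hP.1
  have hinj : Function.Injective f := by
    rw [← MonoidHom.ker_eq_bot_iff]
    rcases (inferInstance : (f.ker).Normal).eq_bot_or_eq_top with h | h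
    · exact h
    · exfalso
      apply hf
      have : x ∈ f.ker := by rw [h]; exact Subgroup.mem_top _
      exact this
  have e : P ≃* ↥f.range := MonoidHom.ofInjective hinj
  exact ⟨e.symm.isSimpleGroup_congr.2 hP.1, by
    rw [← Nat.card_congr e.toEquiv]; exact hP.2⟩

end Cfsg.Agent.Helper9.ONS
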