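import Mathlib
import Cfsg.Agent.Helper5.M11LPD
import Cfsg.Agent.Helper9.ONS.Sub
import Cfsg.Agent.Helper9.ONS.M11ChkSum

set_option autoImplicit false

/-!
A subgroup of the group on the 122760 points that is simple of order 7920: the image of the
group presented by a presentation of the smallest Mathieu group.
-/

namespace Cfsg.Agent.Helper9.ONS.M11D

open Cfsg Cfsg.Agent.Helper9.ON Cfsg.Agent.Helper9.ONS Cfsg.Agent.Helper9.J3

/-- the element of order 11. -/
noncomputable def gE : Equiv.Perm (Fin nP) := pW gw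

/-- the involution, the first generator. -/
noncomputable def tE : Equiv.Perm (Fin nP) := pW tw

theorem cp_gE : Cp gE gT := (cp_pW gw (by decide)).congr g_ok_spec

theorem cp_tE : Cp tE tT := (cp_pW tw (by decide)).congr t_ok_spec

/-- the two elements. -/
noncomputable def bs (c : ℕ) : Equiv.Perm (Fin nP) := Nat.rec gE (fun _ _ => tE) c

theorem cp_bs (c : ℕ) : Cp (bs c) (bf c) := by
  cases c with
  | zero => exact cp_gE
  | succ c => exact cp_tE

theorem bs_mem (c : ℕ) : bs c ∈ ONP := by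
  cases c with
  | zero => exact pW_mem gw (by decide)
  | succ c => exact pW_mem tw (by decide)

/-- the second generator. -/
noncomputable def bE : Equiv.Perm (Fin nP) := pL bs bw

theorem cp_bE : Cp bE bT := (cp_pL bw (fun x _ => cp_bs x)).congr b_ok_spec

theorem tE_mem : tE ∈ ONP := pW_mem tw (by decide)

theorem bE_mem : bE ∈ ONP := pL_mem bw (fun x _ => bs_mem x)

theorem cp_bEi : Cp bE⁻¹ biT :=
  cp_bE.inv bi_lt_spec (fun v hv => by
    have h : sapp bT (biT v) = v := bi_ok_spec v hv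
    rw [sapp_eq] at h
    exact h)

/-- the letters of the presentation. -/
noncomputable def ms (c : ℕ) : Equiv.Perm (Fin nP) :=
  Nat.rec tE (fun c1 _ => Nat.rec bE (fun _ _ => bE⁻¹) c1) c

theorem cp_ms (c : ℕ) : Cp (ms c) (mf c) := by
  rcases c with _ | _ | c
  · exact cp_tE
  · exact cp_bE
  · exact cp_bEi

theorem ms_mem (c : ℕ) : ms c ∈ ONP := by
  rcases c with _ | _ | c
  · exact tE_mem
  · exact bE_mem
  · exact ONP.inv_mem bE_mem

theorem rel_hold : ∀ l ∈ Cfsg.Agent.Helper5.M11LP.R3, (l.map ms).prod = 1 := by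
  intro l hl
  have hc : Cp (pL ms l) (evL mf l) := cp_pL l (fun x _ => cp_ms x)
  have hl' : l ∈ [[0, 0], [1, 2], [2, 1], [1, 1, 1, 1],
      [0, 1, 0, 1, 0, 1, 0, 1, 0, 1, 0, 1, 0, 1, 0, 1, 0, 1, 0, 1, 0, 1],
      [0, 1, 1, 0, 1, 1, 0, 1, 1, 0, 1, 1, 0, 1, 1, 0, 1, 1],
      [0, 1, 0, 1, 0, 2, 0, 1, 0, 1, 1, 0, 2, 0, 1, 0, 2, 0, 2]] := hl
  simp only [List.mem_cons, List.not_mem_nil, or_false] at hl'
  rcases hl' with rfl | rfl | rfl | rfl | rfl | rfl | rfl
  · exact hc.eq_one rel0_ok_spec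
  · exact hc.eq_one rel1_ok_spec
  · exact hc.eq_one rel2_ok_spec
  · exact hc.eq_one rel3_ok_spec
  · exact hc.eq_one rel4_ok_spec
  · exact hc.eq_one rel5_ok_spec
  · exact hc.eq_one rel6_ok_spec

/-- the homomorphism from the presented group. -/
noncomputable def toP : Cfsg.Agent.Helper5.LP.LPG 3 Cfsg.Agent.Helper5.M11LP.R3 →*
    Equiv.Perm (Fin nP) :=
  Cfsg.Agent.Helper5.LP.lift ms Cfsg.Agent.Helper5.M11LP.lettersA rel_hold

theorem toP_ev (c : ℕ) (hc : c < 3) :
    toP (Cfsg.Agent.Helper5.LP.ev 3 Cfsg.Agent.Helper5.M11LP.R3 [c]) = ms c := by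
  unfold toP
  rw [Cfsg.Agent.Helper5.LP.lift_ev ms _ _ [c] (by
    intro x hx
    rw [List.mem_singleton] at hx
    omega)]
  simp

theorem t_move : tT 0 ≠ 0 := by decide +kernel

theorem toP_ne : toP (Cfsg.Agent.Helper5.LP.ev 3 Cfsg.Agent.Helper5.M11LP.R3 [0]) ≠ 1 := by
  rw [toP_ev 0 (by norm_num)]
  exact cp_tE.ne_one (v := 0) (by norm_num [nP]) t_move

theorem range_le : toP.range ≤ ONP := by
  rw [MonoidHom.range_eq_map, ← Cfsg.Agent.Helper5.LP.closure_gens, MonoidHom.map_closure,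
    Subgroup.closure_le]
  rintro _ ⟨_, ⟨c, hc, rfl⟩, rfl⟩
  rw [toP_ev c hc]
  exact ms_mem c

/-- **A subgroup of the group on the 122760 points that is simple of order 7920.** -/
theorem exists_M11 : ∃ K : Subgroup ↥ONP, IsM11 ↥K :=
  ⟨toP.range.subgroupOf ONP,
    simple_card_subgroupOf ONP toP.range range_le 7920
      (simple_card_range 7920 Cfsg.Agent.Helper5.M11LP.simple_card toP _ toP_ne)⟩

end Cfsg.Agent.Helper9.ONS.M11D
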