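import Mathlib

set_option autoImplicit false

/-! The words of the generators of a subgroup of the group on the 122760 points that is the first
Janko group. -/

namespace Cfsg.Agent.Helper9.ONS.J1D

/-- the word, in the letters, of an element of order 19. -/
def gw : List ℕ := [7, 1, 6, 6, 3, 0, 4, 3, 7, 6, 4, 2]

/-- the word, in the letters, of an involution. -/
def tw : List ℕ := [1, 0, 1, 2, 3, 6, 2, 0, 4, 5, 2, 4, 0, 4, 3, 6, 5, 4, 7, 2, 6, 4, 5, 7, 3, 4, 0, 4, 2, 5, 4, 0, 2, 7, 3, 2, 1, 0, 1]

/-- the word, in the two elements, of the first generator. -/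
def xw : List ℕ := [1, 0]

/-- the word, in the two elements, of the second generator. -/
def yw : List ℕ := [0, 0, 0, 1, 0, 0, 0, 1, 0, 0, 1, 0, 0, 0, 1, 0, 1, 0, 0]

end Cfsg.Agent.Helper9.ONS.J1D
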