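import Mathlib
import Cfsg.Agent.Helper9.ONS.Tab
import Cfsg.Agent.Helper9.ONS.J1Words
import Cfsg.Agent.Helper9.ONS.J1DatG
import Cfsg.Agent.Helper9.ONS.J1DatT
import Cfsg.Agent.Helper9.ONS.J1DatX
import Cfsg.Agent.Helper9.ONS.J1DatY
import Cfsg.Agent.Helper9.ONS.J1DatXI
import Cfsg.Agent.Helper9.ONS.J1DatYI

set_option autoImplicit false

/-! The functions of the letters of the words for the subgroup that is the first Janko group. -/

namespace Cfsg.Agent.Helper9.ONS.J1D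

open Cfsg.Agent.Helper9.ONS Cfsg.Agent.Helper9.J3

/-- the functions of the two elements: the element of order 19 and the involution. -/
def bf (c : ℕ) : ℕ → ℕ := Nat.rec gT (fun _ _ => tT) c

/-- the functions of the letters of the presentation: the two generators and their inverses. -/
def jf (c : ℕ) : ℕ → ℕ :=
  Nat.rec xT (fun c1 _ => Nat.rec xiT (fun c2 _ => Nat.rec yT (fun _ _ => yiT) c2) c1) c

/-- the relators of the presentation. -/
def jrel : List (List ℕ) := [[3, 3, 3, 3, 3], [1, 1, 1, 1, 1, 1, 1], [1, 1, 3, 0, 2, 1, 3, 3, 0, 0, 2, 1, 3, 0, 2, 2], [1, 3, 3, 0, 3, 3, 1, 3, 0, 3, 0, 3, 0, 3, 0, 3], [1, 1, 1, 1, 1, 3, 1, 1, 1, 3, 3, 3, 3, 0, 3, 1, 2]]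

end Cfsg.Agent.Helper9.ONS.J1D
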