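import Mathlib
import Cfsg.Agent.Helper9.ONS.J1Defs

set_option autoImplicit false
set_option Elab.async false

/-! Checks of the kernel on the points, in chunks. -/

namespace Cfsg.Agent.Helper9.ONS.J1D

open Cfsg.Agent.Helper9.ONS Cfsg.Agent.Helper9.J3

set_option maxRecDepth 1000000 in
theorem t_ok_26 : allC (eqAt (tT) (evC tw)) 26 4096 = true := by decide +kernel

set_option maxRecDepth 1000000 in
theorem t_ok_27 : allC (eqAt (tT) (evC tw)) 27 4096 = true := by decide +kernel

set_option maxRecDepth 1000000 in
theorem t_ok_28 : allC (eqAt (tT) (evC tw)) 28 4096 = true := by decide +kernel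

set_option maxRecDepth 1000000 in
theorem t_ok_29 : allC (eqAt (tT) (evC tw)) 29 4096 = true := by decide +kernel

set_option maxRecDepth 1000000 in
theorem x_ok_0 : allC (eqAt (xT) (evL bf xw)) 0 32768 = true := by decide +kernel

set_option maxRecDepth 1000000 in
theorem x_ok_1 : allC (eqAt (xT) (evL bf xw)) 1 32768 = true := by decide +kernel

set_option maxRecDepth 1000000 in
theorem x_ok_2 : allC (eqAt (xT) (evL bf xw)) 2 32768 = true := by decide +kernel

set_option maxRecDepth 1000000 in
theorem x_ok_3 : allC (eqAt (xT) (evL bf xw)) 3 32768 = true := by decide +kernel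

set_option maxRecDepth 1000000 in
theorem y_ok_0 : allC (eqAt (yT) (evL bf yw)) 0 8192 = true := by decide +kernel

set_option maxRecDepth 1000000 in
theorem y_ok_1 : allC (eqAt (yT) (evL bf yw)) 1 8192 = true := by decide +kernel

set_option maxRecDepth 1000000 in
theorem y_ok_2 : allC (eqAt (yT) (evL bf yw)) 2 8192 = true := by decide +kernel

set_option maxRecDepth 1000000 in
theorem y_ok_3 : allC (eqAt (yT) (evL bf yw)) 3 8192 = true := by decide +kernel

set_option maxRecDepth 1000000 in
theorem y_ok_4 : allC (eqAt (yT) (evL bf yw)) 4 8192 = true := by decide +kernel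

set_option maxRecDepth 1000000 in
theorem y_ok_5 : allC (eqAt (yT) (evL bf yw)) 5 8192 = true := by decide +kernel

set_option maxRecDepth 1000000 in
theorem y_ok_6 : allC (eqAt (yT) (evL bf yw)) 6 8192 = true := by decide +kernel

set_option maxRecDepth 1000000 in
theorem y_ok_7 : allC (eqAt (yT) (evL bf yw)) 7 8192 = true := by decide +kernel

set_option maxRecDepth 1000000 in
theorem y_ok_8 : allC (eqAt (yT) (evL bf yw)) 8 8192 = true := by decide +kernel

set_option maxRecDepth 1000000 in
theorem y_ok_9 : allC (eqAt (yT) (evL bf yw)) 9 8192 = true := by decide +kernel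

set_option maxRecDepth 1000000 in
theorem y_ok_10 : allC (eqAt (yT) (evL bf yw)) 10 8192 = true := by decide +kernel

end Cfsg.Agent.Helper9.ONS.J1D
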