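import Mathlib
import Cfsg.Agent.Helper9.ONS.J1Defs

set_option autoImplicit false
set_option Elab.async false

/-! Checks of the kernel on the points, in chunks. -/

namespace Cfsg.Agent.Helper9.ONS.J1D

open Cfsg.Agent.Helper9.ONS Cfsg.Agent.Helper9.J3

set_option maxRecDepth 1000000 in
theorem y_ok_11 : allC (eqAt (yT) (evL bf yw)) 11 8192 = true := by decide +kernel

set_option maxRecDepth 1000000 in
theorem y_ok_12 : allC (eqAt (yT) (evL bf yw)) 12 8192 = true := by decide +kernel

set_option maxRecDepth 1000000 in
theorem y_ok_13 : allC (eqAt (yT) (evL bf yw)) 13 8192 = true := by decide +kernel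

set_option maxRecDepth 1000000 in
theorem y_ok_14 : allC (eqAt (yT) (evL bf yw)) 14 8192 = true := by decide +kernel

set_option maxRecDepth 1000000 in
theorem xi_lt_0 : allC (ltAt (xiT)) 0 32768 = true := by decide +kernel

set_option maxRecDepth 1000000 in
theorem xi_lt_1 : allC (ltAt (xiT)) 1 32768 = true := by decide +kernel

set_option maxRecDepth 1000000 in
theorem xi_lt_2 : allC (ltAt (xiT)) 2 32768 = true := by decide +kernel

set_option maxRecDepth 1000000 in
theorem xi_lt_3 : allC (ltAt (xiT)) 3 32768 = true := by decide +kernel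

set_option maxRecDepth 1000000 in
theorem xi_ok_0 : allC (eqAt (fun v => sapp xT (xiT v)) (fun v => v)) 0 32768 = true := by decide +kernel

set_option maxRecDepth 1000000 in
theorem xi_ok_1 : allC (eqAt (fun v => sapp xT (xiT v)) (fun v => v)) 1 32768 = true := by decide +kernel

set_option maxRecDepth 1000000 in
theorem xi_ok_2 : allC (eqAt (fun v => sapp xT (xiT v)) (fun v => v)) 2 32768 = true := by decide +kernel

set_option maxRecDepth 1000000 in
theorem xi_ok_3 : allC (eqAt (fun v => sapp xT (xiT v)) (fun v => v)) 3 32768 = true := by decide +kernel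

set_option maxRecDepth 1000000 in
theorem yi_lt_0 : allC (ltAt (yiT)) 0 32768 = true := by decide +kernel

set_option maxRecDepth 1000000 in
theorem yi_lt_1 : allC (ltAt (yiT)) 1 32768 = true := by decide +kernel

set_option maxRecDepth 1000000 in
theorem yi_lt_2 : allC (ltAt (yiT)) 2 32768 = true := by decide +kernel

set_option maxRecDepth 1000000 in
theorem yi_lt_3 : allC (ltAt (yiT)) 3 32768 = true := by decide +kernel

set_option maxRecDepth 1000000 in
theorem yi_ok_0 : allC (eqAt (fun v => sapp yT (yiT v)) (fun v => v)) 0 32768 = true := by decide +kernel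

set_option maxRecDepth 1000000 in
theorem yi_ok_1 : allC (eqAt (fun v => sapp yT (yiT v)) (fun v => v)) 1 32768 = true := by decide +kernel

set_option maxRecDepth 1000000 in
theorem yi_ok_2 : allC (eqAt (fun v => sapp yT (yiT v)) (fun v => v)) 2 32768 = true := by decide +kernel

set_option maxRecDepth 1000000 in
theorem yi_ok_3 : allC (eqAt (fun v => sapp yT (yiT v)) (fun v => v)) 3 32768 = true := by decide +kernel

set_option maxRecDepth 1000000 in
theorem rel0_ok_0 : allC (eqAt (evL jf [3, 3, 3, 3, 3]) (fun v => v)) 0 32768 = true := by decide +kernel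

set_option maxRecDepth 1000000 in
theorem rel0_ok_1 : allC (eqAt (evL jf [3, 3, 3, 3, 3]) (fun v => v)) 1 32768 = true := by decide +kernel

set_option maxRecDepth 1000000 in
theorem rel0_ok_2 : allC (eqAt (evL jf [3, 3, 3, 3, 3]) (fun v => v)) 2 32768 = true := by decide +kernel

set_option maxRecDepth 1000000 in
theorem rel0_ok_3 : allC (eqAt (evL jf [3, 3, 3, 3, 3]) (fun v => v)) 3 32768 = true := by decide +kernel

set_option maxRecDepth 1000000 in
theorem rel1_ok_0 : allC (eqAt (evL jf [1, 1, 1, 1, 1, 1, 1]) (fun v => v)) 0 16384 = true := by decide +kernel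

set_option maxRecDepth 1000000 in
theorem rel1_ok_1 : allC (eqAt (evL jf [1, 1, 1, 1, 1, 1, 1]) (fun v => v)) 1 16384 = true := by decide +kernel

set_option maxRecDepth 1000000 in
theorem rel1_ok_2 : allC (eqAt (evL jf [1, 1, 1, 1, 1, 1, 1]) (fun v => v)) 2 16384 = true := by decide +kernel

set_option maxRecDepth 1000000 in
theorem rel1_ok_3 : allC (eqAt (evL jf [1, 1, 1, 1, 1, 1, 1]) (fun v => v)) 3 16384 = true := by decide +kernel

set_option maxRecDepth 1000000 in
theorem rel1_ok_4 : allC (eqAt (evL jf [1, 1, 1, 1, 1, 1, 1]) (fun v => v)) 4 16384 = true := by decide +kernel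

set_option maxRecDepth 1000000 in
theorem rel1_ok_5 : allC (eqAt (evL jf [1, 1, 1, 1, 1, 1, 1]) (fun v => v)) 5 16384 = true := by decide +kernel

set_option maxRecDepth 1000000 in
theorem rel1_ok_6 : allC (eqAt (evL jf [1, 1, 1, 1, 1, 1, 1]) (fun v => v)) 6 16384 = true := by decide +kernel

end Cfsg.Agent.Helper9.ONS.J1D
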