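import Mathlib
import Cfsg.Agent.Helper9.ONS.J1Defs

set_option autoImplicit false
set_option Elab.async false

/-! Checks of the kernel on the points, in chunks. -/

namespace Cfsg.Agent.Helper9.ONS.J1D

open Cfsg.Agent.Helper9.ONS Cfsg.Agent.Helper9.J3

set_option maxRecDepth 1000000 in
theorem rel1_ok_7 : allC (eqAt (evL jf [1, 1, 1, 1, 1, 1, 1]) (fun v => v)) 7 16384 = true := by decide +kernel

set_option maxRecDepth 1000000 in
theorem rel2_ok_0 : allC (eqAt (evL jf [1, 1, 3, 0, 2, 1, 3, 3, 0, 0, 2, 1, 3, 0, 2, 2]) (fun v => v)) 0 8192 = true := by decide +kernel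

set_option maxRecDepth 1000000 in
theorem rel2_ok_1 : allC (eqAt (evL jf [1, 1, 3, 0, 2, 1, 3, 3, 0, 0, 2, 1, 3, 0, 2, 2]) (fun v => v)) 1 8192 = true := by decide +kernel

set_option maxRecDepth 1000000 in
theorem rel2_ok_2 : allC (eqAt (evL jf [1, 1, 3, 0, 2, 1, 3, 3, 0, 0, 2, 1, 3, 0, 2, 2]) (fun v => v)) 2 8192 = true := by decide +kernel

set_option maxRecDepth 1000000 in
theorem rel2_ok_3 : allC (eqAt (evL jf [1, 1, 3, 0, 2, 1, 3, 3, 0, 0, 2, 1, 3, 0, 2, 2]) (fun v => v)) 3 8192 = true := by decide +kernel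

set_option maxRecDepth 1000000 in
theorem rel2_ok_4 : allC (eqAt (evL jf [1, 1, 3, 0, 2, 1, 3, 3, 0, 0, 2, 1, 3, 0, 2, 2]) (fun v => v)) 4 8192 = true := by decide +kernel

set_option maxRecDepth 1000000 in
theorem rel2_ok_5 : allC (eqAt (evL jf [1, 1, 3, 0, 2, 1, 3, 3, 0, 0, 2, 1, 3, 0, 2, 2]) (fun v => v)) 5 8192 = true := by decide +kernel

set_option maxRecDepth 1000000 in
theorem rel2_ok_6 : allC (eqAt (evL jf [1, 1, 3, 0, 2, 1, 3, 3, 0, 0, 2, 1, 3, 0, 2, 2]) (fun v => v)) 6 8192 = true := by decide +kernel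

set_option maxRecDepth 1000000 in
theorem rel2_ok_7 : allC (eqAt (evL jf [1, 1, 3, 0, 2, 1, 3, 3, 0, 0, 2, 1, 3, 0, 2, 2]) (fun v => v)) 7 8192 = true := by decide +kernel

set_option maxRecDepth 1000000 in
theorem rel2_ok_8 : allC (eqAt (evL jf [1, 1, 3, 0, 2, 1, 3, 3, 0, 0, 2, 1, 3, 0, 2, 2]) (fun v => v)) 8 8192 = true := by decide +kernel

set_option maxRecDepth 1000000 in
theorem rel2_ok_9 : allC (eqAt (evL jf [1, 1, 3, 0, 2, 1, 3, 3, 0, 0, 2, 1, 3, 0, 2, 2]) (fun v => v)) 9 8192 = true := by decide +kernel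

set_option maxRecDepth 1000000 in
theorem rel2_ok_10 : allC (eqAt (evL jf [1, 1, 3, 0, 2, 1, 3, 3, 0, 0, 2, 1, 3, 0, 2, 2]) (fun v => v)) 10 8192 = true := by decide +kernel

set_option maxRecDepth 1000000 in
theorem rel2_ok_11 : allC (eqAt (evL jf [1, 1, 3, 0, 2, 1, 3, 3, 0, 0, 2, 1, 3, 0, 2, 2]) (fun v => v)) 11 8192 = true := by decide +kernel

set_option maxRecDepth 1000000 in
theorem rel2_ok_12 : allC (eqAt (evL jf [1, 1, 3, 0, 2, 1, 3, 3, 0, 0, 2, 1, 3, 0, 2, 2]) (fun v => v)) 12 8192 = true := by decide +kernel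

set_option maxRecDepth 1000000 in
theorem rel2_ok_13 : allC (eqAt (evL jf [1, 1, 3, 0, 2, 1, 3, 3, 0, 0, 2, 1, 3, 0, 2, 2]) (fun v => v)) 13 8192 = true := by decide +kernel

set_option maxRecDepth 1000000 in
theorem rel2_ok_14 : allC (eqAt (evL jf [1, 1, 3, 0, 2, 1, 3, 3, 0, 0, 2, 1, 3, 0, 2, 2]) (fun v => v)) 14 8192 = true := by decide +kernel

set_option maxRecDepth 1000000 in
theorem rel3_ok_0 : allC (eqAt (evL jf [1, 3, 3, 0, 3, 3, 1, 3, 0, 3, 0, 3, 0, 3, 0, 3]) (fun v => v)) 0 8192 = true := by decide +kernel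

set_option maxRecDepth 1000000 in
theorem rel3_ok_1 : allC (eqAt (evL jf [1, 3, 3, 0, 3, 3, 1, 3, 0, 3, 0, 3, 0, 3, 0, 3]) (fun v => v)) 1 8192 = true := by decide +kernel

set_option maxRecDepth 1000000 in
theorem rel3_ok_2 : allC (eqAt (evL jf [1, 3, 3, 0, 3, 3, 1, 3, 0, 3, 0, 3, 0, 3, 0, 3]) (fun v => v)) 2 8192 = true := by decide +kernel

set_option maxRecDepth 1000000 in
theorem rel3_ok_3 : allC (eqAt (evL jf [1, 3, 3, 0, 3, 3, 1, 3, 0, 3, 0, 3, 0, 3, 0, 3]) (fun v => v)) 3 8192 = true := by decide +kernel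

set_option maxRecDepth 1000000 in
theorem rel3_ok_4 : allC (eqAt (evL jf [1, 3, 3, 0, 3, 3, 1, 3, 0, 3, 0, 3, 0, 3, 0, 3]) (fun v => v)) 4 8192 = true := by decide +kernel

set_option maxRecDepth 1000000 in
theorem rel3_ok_5 : allC (eqAt (evL jf [1, 3, 3, 0, 3, 3, 1, 3, 0, 3, 0, 3, 0, 3, 0, 3]) (fun v => v)) 5 8192 = true := by decide +kernel

set_option maxRecDepth 1000000 in
theorem rel3_ok_6 : allC (eqAt (evL jf [1, 3, 3, 0, 3, 3, 1, 3, 0, 3, 0, 3, 0, 3, 0, 3]) (fun v => v)) 6 8192 = true := by decide +kernel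

end Cfsg.Agent.Helper9.ONS.J1D
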