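import Mathlib
import Cfsg.Agent.Helper9.ONS.J1Defs

set_option autoImplicit false
set_option Elab.async false

/-! Checks of the kernel on the points, in chunks. -/

namespace Cfsg.Agent.Helper9.ONS.J1D

open Cfsg.Agent.Helper9.ONS Cfsg.Agent.Helper9.J3

set_option maxRecDepth 1000000 in
theorem rel4_ok_14 : allC (eqAt (evL jf [1, 1, 1, 1, 1, 3, 1, 1, 1, 3, 3, 3, 3, 0, 3, 1, 2]) (fun v => v)) 14 8192 = true := by decide +kernel

end Cfsg.Agent.Helper9.ONS.J1D
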