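import Mathlib
import Cfsg.Agent.Helper5.J1Pres

set_option autoImplicit false

/-!
The group presented by the presentation of the first Janko group on the two Janko matrices is
simple of order 175560, and so is its image under a homomorphism that does not kill the first
generator.
-/

namespace Cfsg.Agent.Helper9.ONS

open Cfsg Cfsg.Agent.Helper5.J1

/-- the presented group. -/
abbrev PJ1 : Type := PresentedGroup Cfsg.Agent.Helper5.J1.rels

theorem finite_PJ1 : Finite PJ1 :=
  Nat.finite_of_card_ne_zero (fun h => by
    have h1 := card_presented_dvd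
    rw [h] at h1
    have := Nat.eq_zero_of_zero_dvd h1
    omega)

theorem card_PJ1 : Nat.card PJ1 = 175560 := by
  have := finite_PJ1
  have h1 : Nat.card PJ1 ≤ 175560 := Nat.le_of_dvd (by norm_num) card_presented_dvd
  have h2 : Nat.card ↥(toJ.range) = 175560 := by
    rw [range_toJ]
    exact isJ1_J1.2
  have h3 : Nat.card ↥(toJ.range) ≤ Nat.card PJ1 :=
    Nat.card_le_card_of_surjective toJ.rangeRestrict toJ.rangeRestrict_surjective
  omega

theorem toJ_injective : Function.Injective toJ := by
  have := finite_PJ1
  have h2 : Nat.card ↥(toJ.range) = 175560 := by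
    rw [range_toJ]
    exact isJ1_J1.2
  have hbij : Function.Bijective toJ.rangeRestrict := by
    rw [Nat.bijective_iff_surjective_and_card]
    exact ⟨toJ.rangeRestrict_surjective, by rw [card_PJ1, h2]⟩
  intro a b hab
  apply hbij.1
  exact Subtype.ext hab

theorem simple_PJ1 : IsSimpleGroup PJ1 := by
  have e : PJ1 ≃* ↥Spor.J1 :=
    (MonoidHom.ofInjective toJ_injective).trans (MulEquiv.subgroupCongr range_toJ)
  exact e.isSimpleGroup_congr.2 isJ1_J1.1

/-- the image of the presented group under a homomorphism that does not kill the first generator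
is simple of order 175560. -/
theorem isJ1_range {G : Type*} [Group G] (f : PJ1 →* G)
    (hf : f (PresentedGroup.of 0) ≠ 1) : IsJ1 ↥f.range := by
  have := simple_PJ1
  have hinj : Function.Injective f := by
    rw [← MonoidHom.ker_eq_bot_iff]
    rcases (inferInstance : (f.ker).Normal).eq_bot_or_eq_top with h | h
    · exact h
    · exfalso
      apply hf
      have : (PresentedGroup.of 0 : PJ1) ∈ f.ker := by rw [h]; exact Subgroup.mem_top _
      exact this
  have e : PJ1 ≃* ↥f.range := MonoidHom.ofInjective hinj
  exact ⟨e.symm.isSimpleGroup_congr.2 simple_PJ1, by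
    rw [← Nat.card_congr e.toEquiv]; exact card_PJ1⟩

end Cfsg.Agent.Helper9.ONS
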