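import Mathlib
import Cfsg.Agent.Helper9.ONS.J1P
import Cfsg.Agent.Helper9.ONS.Sub
import Cfsg.Agent.Helper9.ONS.J1ChkSum

set_option autoImplicit false

/-!
A subgroup of the group on the 122760 points that is simple of order 175560: the image of the
group presented by the presentation of the first Janko group.
-/

namespace Cfsg.Agent.Helper9.ONS.J1D

open Cfsg Cfsg.Agent.Helper9.ON Cfsg.Agent.Helper9.ONS Cfsg.Agent.Helper9.J3

/-- the element of order 19. -/
noncomputable def gE : Equiv.Perm (Fin nP) := pW gw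

/-- the involution. -/
noncomputable def tE : Equiv.Perm (Fin nP) := pW tw

theorem cp_gE : Cp gE gT := (cp_pW gw (by decide)).congr g_ok_spec

theorem cp_tE : Cp tE tT := (cp_pW tw (by decide)).congr t_ok_spec

/-- the two elements. -/
noncomputable def bs (c : ℕ) : Equiv.Perm (Fin nP) := Nat.rec gE (fun _ _ => tE) c

theorem cp_bs (c : ℕ) : Cp (bs c) (bf c) := by
  cases c with
  | zero => exact cp_gE
  | succ c => exact cp_tE

theorem bs_mem (c : ℕ) : bs c ∈ ONP := by
  cases c with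
  | zero => exact pW_mem gw (by decide)
  | succ c => exact pW_mem tw (by decide)

/-- the first generator. -/
noncomputable def xE : Equiv.Perm (Fin nP) := pL bs xw

/-- the second generator. -/
noncomputable def yE : Equiv.Perm (Fin nP) := pL bs yw

theorem cp_xE : Cp xE xT := (cp_pL xw (fun x _ => cp_bs x)).congr x_ok_spec

theorem cp_yE : Cp yE yT := (cp_pL yw (fun x _ => cp_bs x)).congr y_ok_spec

theorem xE_mem : xE ∈ ONP := pL_mem xw (fun x _ => bs_mem x)

theorem yE_mem : yE ∈ ONP := pL_mem yw (fun x _ => bs_mem x)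

theorem cp_xEi : Cp xE⁻¹ xiT :=
  cp_xE.inv xi_lt_spec (fun v hv => by
    have h : sapp xT (xiT v) = v := xi_ok_spec v hv
    rw [sapp_eq] at h
    exact h)

theorem cp_yEi : Cp yE⁻¹ yiT :=
  cp_yE.inv yi_lt_spec (fun v hv => by
    have h : sapp yT (yiT v) = v := yi_ok_spec v hv
    rw [sapp_eq] at h
    exact h)

/-- the letters of the presentation. -/
noncomputable def js (c : ℕ) : Equiv.Perm (Fin nP) :=
  Nat.rec xE (fun c1 _ => Nat.rec xE⁻¹ (fun c2 _ => Nat.rec yE (fun _ _ => yE⁻¹) c2) c1) c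

theorem cp_js (c : ℕ) : Cp (js c) (jf c) := by
  rcases c with _ | _ | _ | c
  · exact cp_xE
  · exact cp_xEi
  · exact cp_yE
  · exact cp_yEi

theorem rel_hold : ∀ l ∈ Cfsg.Agent.Helper5.J1.relW, pL js l = 1 := by
  intro l hl
  have hc : Cp (pL js l) (evL jf l) := cp_pL l (fun x _ => cp_js x)
  have hl' : l ∈ [[3, 3, 3, 3, 3], [1, 1, 1, 1, 1, 1, 1],
      [1, 1, 3, 0, 2, 1, 3, 3, 0, 0, 2, 1, 3, 0, 2, 2],
      [1, 3, 3, 0, 3, 3, 1, 3, 0, 3, 0, 3, 0, 3, 0, 3],
      [1, 1, 1, 1, 1, 3, 1, 1, 1, 3, 3, 3, 3, 0, 3, 1, 2]] := hl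
  simp only [List.mem_cons, List.not_mem_nil, or_false] at hl'
  rcases hl' with rfl | rfl | rfl | rfl | rfl
  · exact hc.eq_one rel0_ok_spec
  · exact hc.eq_one rel1_ok_spec
  · exact hc.eq_one rel2_ok_spec
  · exact hc.eq_one rel3_ok_spec
  · exact hc.eq_one rel4_ok_spec

/-- the images of the generators. -/
noncomputable def genP : Fin 2 → Equiv.Perm (Fin nP) := ![xE, yE]

theorem lift_fl (c : ℕ) (hc : c < 4) :
    FreeGroup.lift genP (Cfsg.Agent.Helper5.J1.fl c) = js c := by
  interval_cases c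
  · exact FreeGroup.lift_apply_of
  · show FreeGroup.lift genP (FreeGroup.of 0)⁻¹ = xE⁻¹
    rw [map_inv, FreeGroup.lift_apply_of]; rfl
  · exact FreeGroup.lift_apply_of
  · show FreeGroup.lift genP (FreeGroup.of 1)⁻¹ = yE⁻¹
    rw [map_inv, FreeGroup.lift_apply_of]; rfl

theorem lift_fw : ∀ l : List ℕ, (∀ c ∈ l, c < 4) →
    FreeGroup.lift genP (Cfsg.Agent.Helper5.J1.fw l) = pL js l
  | [], _ => by simp [Cfsg.Agent.Helper5.J1.fw, pL]
  | c :: l, h => by
    rw [Cfsg.Agent.Helper5.J1.fw_cons, map_mul, lift_fl c (h c List.mem_cons_self),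
      lift_fw l (fun c hc => h c (List.mem_cons_of_mem _ hc))]
    unfold pL
    rw [List.map_cons, List.prod_cons]

theorem rels_hold : ∀ r ∈ Cfsg.Agent.Helper5.J1.rels, FreeGroup.lift genP r = 1 := by
  rintro r ⟨l, hl, rfl⟩
  rw [lift_fw l (Cfsg.Agent.Helper5.J1.relW_lt l hl)]
  exact rel_hold l hl

/-- the homomorphism from the presented group. -/
noncomputable def toP : PJ1 →* Equiv.Perm (Fin nP) := PresentedGroup.toGroup rels_hold

theorem toP_of (i : Fin 2) : toP (PresentedGroup.of i) = genP i := PresentedGroup.toGroup.of _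

theorem x_move : xT 0 ≠ 0 := by decide +kernel

theorem toP_ne : toP (PresentedGroup.of 0) ≠ 1 := by
  rw [toP_of]
  exact cp_xE.ne_one (v := 0) (by norm_num [nP]) x_move

theorem range_le : toP.range ≤ ONP := by
  rw [MonoidHom.range_eq_map, ← PresentedGroup.closure_range_of, MonoidHom.map_closure,
    Subgroup.closure_le]
  rintro _ ⟨_, ⟨i, rfl⟩, rfl⟩
  rw [toP_of]
  fin_cases i
  · exact xE_mem
  · exact yE_mem

/-- **A subgroup of the group on the 122760 points that is simple of order 175560.** -/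
theorem exists_J1 : ∃ K : Subgroup ↥ONP, IsJ1 ↥K :=
  ⟨toP.range.subgroupOf ONP,
    simple_card_subgroupOf ONP toP.range range_le 175560 (isJ1_range toP toP_ne)⟩

end Cfsg.Agent.Helper9.ONS.J1D
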